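import Mathlib
import Groth.Agent.S16238

/-!
Top Ext and Tor of `A ⧸ (regular sequence)`: algebraic lemmas.
-/

set_option autoImplicit false
universe u

open CategoryTheory CategoryTheory.Limits

namespace Groth.Agent.RegTop

open Groth.Agent.S16238 (mulSC mulSC_shortExact)

variable {A : Type u} [CommRing A]

lemma quot_step {Q Q' M : Type u} [AddCommGroup Q] [Module A Q] [AddCommGroup Q'] [Module A Q']
    [AddCommGroup M] [Module A M] (I I' : Ideal A) (r : A) (hI : I' = I ⊔ Ideal.span {r})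
    (e : Q ≃ₗ[A] M ⧸ (I • ⊤ : Submodule A M)) (δ : Q →ₗ[A] Q') (hs : Function.Surjective δ)
    (hk : ∀ q, δ q = 0 ↔ ∃ q', r • q' = q) :
    Nonempty (Q' ≃ₗ[A] M ⧸ (I' • ⊤ : Submodule A M)) := by
  let ψ : M →ₗ[A] Q' := δ ∘ₗ e.symm.toLinearMap ∘ₗ (I • ⊤ : Submodule A M).mkQ
  have hψ : Function.Surjective ψ :=
    hs.comp (e.symm.surjective.comp (Submodule.mkQ_surjective _))
  have hker : LinearMap.ker ψ = I' • ⊤ := by
    rw [hI, Submodule.sup_smul, Submodule.ideal_span_singleton_smul]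
    ext m
    rw [LinearMap.mem_ker]
    change δ (e.symm (Submodule.Quotient.mk m)) = 0 ↔ _
    rw [hk, Submodule.mem_sup]
    constructor
    · rintro ⟨q', hq'⟩
      obtain ⟨m', hm'⟩ := Submodule.Quotient.mk_surjective _ (e q')
      have h1 : (Submodule.Quotient.mk m : M ⧸ (I • ⊤ : Submodule A M)) = Submodule.Quotient.mk (r • m') := by
        rw [Submodule.Quotient.mk_smul, hm', ← map_smul, hq', LinearEquiv.apply_symm_apply]
      exact ⟨m - r • m', (Submodule.Quotient.eq _).1 h1, r • m',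
        Submodule.smul_mem_pointwise_smul _ _ _ Submodule.mem_top, sub_add_cancel _ _⟩
    · rintro ⟨a, ha, b, hb, rfl⟩
      rw [Submodule.mem_smul_pointwise_iff_exists] at hb
      obtain ⟨c, -, rfl⟩ := hb
      refine ⟨e.symm (Submodule.Quotient.mk c), ?_⟩
      rw [← map_smul, Submodule.Quotient.mk_add, (Submodule.Quotient.mk_eq_zero _).2 ha, zero_add,
        Submodule.Quotient.mk_smul]
  exact ⟨(ψ.quotKerEquivOfSurjective hψ).symm.trans (Submodule.quotEquivOfEq _ _ hker)⟩

lemma hom_step {Q Q' M : Type u} [AddCommGroup Q] [Module A Q] [AddCommGroup Q'] [Module A Q']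
    [AddCommGroup M] [Module A M] (I I' : Ideal A) (r : A) (hI : I' = I ⊔ Ideal.span {r})
    (e : Q ≃ₗ[A] ((A ⧸ I) →ₗ[A] M)) (δ : Q' →ₗ[A] Q) (hi : Function.Injective δ)
    (hk : ∀ q, r • q = 0 ↔ ∃ q', δ q' = q) :
    Nonempty (Q' ≃ₗ[A] ((A ⧸ I') →ₗ[A] M)) := by
  have hle : I ≤ I' := hI ▸ le_sup_left
  let γ : ((A ⧸ I') →ₗ[A] M) →ₗ[A] ((A ⧸ I) →ₗ[A] M) := LinearMap.lcomp A M (Submodule.factor hle)
  have hγ : Function.Injective γ := fun f g h =>
    LinearMap.ext fun x => by
      obtain ⟨y, rfl⟩ := Submodule.factor_surjective hle x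
      exact LinearMap.congr_fun h y
  have hr : LinearMap.range (e.toLinearMap ∘ₗ δ) = LinearMap.range γ := by
    ext f
    have h1 : f ∈ LinearMap.range (e.toLinearMap ∘ₗ δ) ↔ r • f = 0 := by
      rw [← e.symm.map_eq_zero_iff, map_smul, hk]
      constructor
      · rintro ⟨q', rfl⟩; exact ⟨q', by simp⟩
      · rintro ⟨q', hq'⟩; exact ⟨q', by simp [hq']⟩
    rw [h1]
    constructor
    · intro hf
      have hI' : I' ≤ LinearMap.ker (f ∘ₗ I.mkQ) := by
        rw [hI, sup_le_iff, Ideal.span_singleton_le_iff_mem]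
        refine ⟨fun a ha => ?_, ?_⟩
        · rw [LinearMap.mem_ker, LinearMap.comp_apply, Submodule.mkQ_apply,
            (Submodule.Quotient.mk_eq_zero I).2 ha, map_zero]
        · rw [LinearMap.mem_ker, LinearMap.comp_apply, Submodule.mkQ_apply]
          have : (Submodule.Quotient.mk r : A ⧸ I) = r • Submodule.Quotient.mk 1 := by
            rw [← Submodule.Quotient.mk_smul, smul_eq_mul, mul_one]
          rw [this, map_smul]
          exact LinearMap.congr_fun hf _
      exact ⟨Submodule.liftQ I' (f ∘ₗ I.mkQ) hI', Submodule.linearMap_qext _ (LinearMap.ext fun _ => rfl)⟩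
    · rintro ⟨g, rfl⟩
      refine LinearMap.ext fun x => ?_
      obtain ⟨x, rfl⟩ := Submodule.Quotient.mk_surjective I x
      change r • g (Submodule.Quotient.mk x) = 0
      rw [← map_smul, ← Submodule.Quotient.mk_smul, (Submodule.Quotient.mk_eq_zero I').2, map_zero]
      rw [hI]
      exact Ideal.mem_sup_right (Ideal.mem_span_singleton'.2 ⟨x, by rw [smul_eq_mul, mul_comm]⟩)
  exact ⟨(LinearEquiv.ofInjective (e.toLinearMap ∘ₗ δ) (e.injective.comp hi)).trans
    ((LinearEquiv.ofEq _ _ hr).trans (LinearEquiv.ofInjective γ hγ).symm)⟩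

lemma regular_of_append {rs : List A} {r : A}
    (h : RingTheory.Sequence.IsWeaklyRegular A (rs ++ [r])) :
    RingTheory.Sequence.IsWeaklyRegular A rs ∧ IsSMulRegular (A ⧸ Ideal.ofList rs) r := by
  rw [RingTheory.Sequence.isWeaklyRegular_append_iff, RingTheory.Sequence.isWeaklyRegular_singleton_iff] at h
  refine ⟨h.1, (LinearEquiv.isSMulRegular_congr (Submodule.quotEquivOfEq _ _ ?_) r).1 h.2⟩
  rw [smul_eq_mul, Ideal.mul_top]

lemma ofList_append_singleton (rs : List A) (r : A) :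
    Ideal.ofList (rs ++ [r]) = Ideal.ofList rs ⊔ Ideal.span {r} := by
  rw [Ideal.ofList_append, Ideal.ofList_singleton]

end Groth.Agent.RegTop
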